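import Cfsg.Agent.Lib.Spor.Leech.SixFix.Large

/-!
In a group of Monster type the element of order three central in a Sylow subgroup of the joint centraliser of two
centres is a commutator modulo the extraspecial group, inside its own centraliser, and is inverted.
-/

set_option autoImplicit false
set_option maxRecDepth 100000
set_option linter.style.haveILetI false

noncomputable section

namespace Cfsg.Agent.Fus.MonsterThree

open Cfsg Cfsg.Agent.Spor.Leech Cfsg.Agent.Spor.Leech.OddFix Cfsg.Agent.Spor.Leech.SixFix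
open Cfsg.Agent.Spor

/-- The two tabled permutations with the given commutator. -/
theorem comm_check : Nat.beq (Golay.comp (rT.at 13) (rT.at 150))
    (Golay.comp (Golay.comp g3 (rT.at 150)) (rT.at 13)) = true := by decide +kernel

/-- The automorphism is a commutator in its centraliser. -/
theorem exists_comm_P0 : ∃ g h : Cent P0, (g : Co0) * (h : Co0) = P0 * ((h : Co0) * (g : Co0)) := by
  obtain ⟨hva, ⟨ha, ea⟩, -⟩ := rE_spec (i := 13) (by norm_num)
  obtain ⟨hvb, ⟨hb, eb⟩, -⟩ := rE_spec (i := 150) (by norm_num)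
  refine ⟨rE 13, rE 150, ?_⟩
  have h := congrArg Golay.permOf (Nat.eq_of_beq_eq_true comm_check)
  rw [Golay.permOf_comp hva hvb, Golay.permOf_comp (Golay.valid_comp g3_checks.2.1 hvb) hva,
    Golay.permOf_comp g3_checks.2.1 hvb] at h
  rw [ea, eb, P0, (mono_mul_mono ha hb empty_code).1, (mono_mul_mono hb ha empty_code).1,
    (mono_mul_mono gen_mem (mul_mem hb ha) empty_code).1]
  refine ext_axis fun i => ?_
  simp only [mono_axis, Finset.notMem_empty, if_false]
  rw [h, gen, mul_assoc]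

variable {G : Type*} [Group G] [Finite G] {z : G} {Q : Subgroup (Subgroup.centralizer ({z} : Set G))} [hQn : Q.Normal]
  {e : (Subgroup.centralizer ({z} : Set G)) ⧸ Q ≃* Cfsg.Spor.Co1} {ψ : leechLattice → Q ⧸ Subgroup.center Q}
  {b s : G}

/-- The element is a commutator of two elements of its centraliser, up to the extraspecial group. -/
theorem exists_comm (S : Setup z Q e ψ 3 P0 Bs Gi b s none) : ∃ c d : G, c * z = z * c ∧ d * z = z * d ∧
    c * b = b * c ∧ d * b = b * d ∧ ∃ q ∈ S.Q0, c * d = b * q * (d * c) := by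
  obtain ⟨g, h, hgh⟩ := exists_comm_P0
  have lift : ∀ k : Cent P0, ∃ c : Subgroup.centralizer ({z} : Set G),
      (QuotientGroup.mk (k : Co0) : Cfsg.Spor.Co1) = e (QuotientGroup.mk c) ∧ (c : G) * b = b * c := by
    intro k
    obtain ⟨c, hc, hcb⟩ := S.exists_lift (g := (k : Co0)) (i := 1) (by norm_num)
      (by rw [pow_one, mem_Cent.1 k.2, mul_inv_cancel_right])
    exact ⟨c, hc, by rwa [pow_one, mul_inv_eq_iff_eq_mul] at hcb⟩
  obtain ⟨c, hc, hcb⟩ := lift g
  obtain ⟨d, hd, hdb⟩ := lift h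
  refine ⟨c, d, Subgroup.mem_centralizer_singleton_iff.1 c.2, Subgroup.mem_centralizer_singleton_iff.1 d.2, hcb, hdb,
    b⁻¹ * ((c : G) * d * (((d : G) * c)⁻¹)), ?_, by group⟩
  have he : (QuotientGroup.mk (c * d) : Subgroup.centralizer ({z} : Set G) ⧸ Q) =
      QuotientGroup.mk (⟨b, S.bmem⟩ * (d * c)) := e.injective (by
    rw [QuotientGroup.mk_mul, map_mul, ← hc, ← hd, QuotientGroup.mk_mul, QuotientGroup.mk_mul, map_mul, map_mul,
      ← hc, ← hd, ← S.img, ← QuotientGroup.mk_mul, ← QuotientGroup.mk_mul, ← QuotientGroup.mk_mul, hgh])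
  refine S.mem_Q0.2 ⟨mem_QG.2 ⟨⟨⟨b, S.bmem⟩⁻¹ * (c * d * (d * c)⁻¹), ?_⟩, rfl⟩, ?_⟩
  · rw [← QuotientGroup.eq_one_iff, QuotientGroup.mk_mul, QuotientGroup.mk_mul, he, QuotientGroup.mk_mul,
      QuotientGroup.mk_inv, QuotientGroup.mk_inv, mul_inv_cancel_right, inv_mul_cancel]
  · have hb1 : Commute ((c : G) * d) b := (show Commute (c : G) b from hcb).mul_left (show Commute (d : G) b from hdb)
    have hb2 : Commute ((d : G) * c) b := (show Commute (d : G) b from hdb).mul_left (show Commute (c : G) b from hcb)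
    exact ((Commute.refl b).inv_left.mul_left (hb1.mul_left hb2.inv_left)).eq

/-- The element lies in the derived subgroup of its centraliser. -/
theorem mem_derived (S : Setup z Q e ψ 3 P0 Bs Gi b s none) :
    (⟨b, mem_CB.2 rfl⟩ : CB b) ∈ commutator (CB b) := by
  obtain ⟨c, d, -, -, hcb, hdb, q, hq, hcd⟩ := exists_comm S
  let c' : CB b := ⟨c, mem_CB.2 hcb⟩
  let d' : CB b := ⟨d, mem_CB.2 hdb⟩
  let q' : CB b := ⟨q, mem_CB.2 (S.mem_Q0.1 hq).2⟩
  let b' : CB b := ⟨b, mem_CB.2 rfl⟩
  have h1 : b' * q' ∈ commutator (CB b) := by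
    have e1 : b' * q' = c' * d' * c'⁻¹ * d'⁻¹ := Subtype.ext (by
      show b * q = c * d * c⁻¹ * d⁻¹
      rw [hcd]; group)
    rw [e1, commutator_def]
    exact Subgroup.commutator_mem_commutator (Subgroup.mem_top c') (Subgroup.mem_top d')
  have hq4 : q ^ 4 = 1 := by
    have : (q ^ 2) ^ 2 = 1 := by
      rcases S.mt.ext.sq q hq.1 with h | h <;> rw [pow_two q, h]
      · rw [one_pow]
      · rw [pow_two, S.mt.z_sq]
    rwa [← pow_mul] at this
  have e4 : b' = (b' * q') ^ 4 := Subtype.ext (by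
    show b = (b * q) ^ 4
    rw [(show Commute b q from (S.mem_Q0.1 hq).2.symm).mul_pow, hq4, mul_one, show b ^ 4 = b ^ 3 * b from pow_succ b 3,
      S.b_pow, one_mul])
  show b' ∈ _
  rw [e4]
  exact pow_mem h1 4

/-- An element of the centraliser of the centre inverts it. -/
theorem exists_inverter (S : Setup z Q e ψ 3 P0 Bs Gi b s none) : ∃ τ : G, τ * z = z * τ ∧ τ * b * τ⁻¹ = b⁻¹ := by
  obtain ⟨g, hg⟩ := exists_norm 2 (by norm_num)
  obtain ⟨c, -, hcb⟩ := S.exists_lift (i := 2) (by norm_num) hg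
  refine ⟨c, Subgroup.mem_centralizer_singleton_iff.1 c.2, hcb.trans (eq_inv_of_mul_eq_one_left ?_)⟩
  rw [← pow_succ, S.b_pow]

/-- No element inverting the element and commuting with the centre moves its centraliser only by the extraspecial
group and the element. -/
theorem exists_moved (S : Setup z Q e ψ 3 P0 Bs Gi b s none) {τ : G} (hτz : τ * z = z * τ)
    (hτb : τ * b * τ⁻¹ = b⁻¹) : ∃ c : G, c * z = z * c ∧ c * b = b * c ∧
      ∀ x ∈ S.Q0, ∀ y ∈ Subgroup.zpowers b, τ * c * τ⁻¹ ≠ c * x * y := by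
  by_contra hcon
  push Not at hcon
  obtain ⟨c, d, hcz, hdz, hcb, hdb, q, hq, hcd⟩ := exists_comm S
  obtain ⟨x, hx, y, hy, hc⟩ := hcon c hcz hcb
  obtain ⟨x', hx', y', hy', hd⟩ := hcon d hdz hdb
  have hyz : y * z = z * y := by
    obtain ⟨k, rfl⟩ := Subgroup.mem_zpowers_iff.1 hy
    exact ((show Commute b z from S.bz).zpow_left k).eq
  have hyz' : y' * z = z * y' := by
    obtain ⟨k, rfl⟩ := Subgroup.mem_zpowers_iff.1 hy'
    exact ((show Commute b z from S.bz).zpow_left k).eq
  let mk : ∀ a : G, a * z = z * a → Subgroup.centralizer ({z} : Set G) ⧸ Q :=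
    fun a ha => QuotientGroup.mk ⟨a, Subgroup.mem_centralizer_singleton_iff.2 ha⟩
  have hmul : ∀ a a' (ha : a * z = z * a) (ha' : a' * z = z * a'),
      mk (a * a') ((show Commute a z from ha).mul_left ha').eq = mk a ha * mk a' ha' := fun _ _ _ _ => rfl
  have hQ : ∀ a (ha : a * z = z * a), a ∈ QG Q → mk a ha = 1 := fun a ha h => by
    obtain ⟨q, hq⟩ := mem_QG.1 h
    exact (QuotientGroup.eq_one_iff _).2 (by
      rw [show (⟨a, Subgroup.mem_centralizer_singleton_iff.2 ha⟩ : Subgroup.centralizer ({z} : Set G)) = q from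
        Subtype.ext hq.symm]
      exact q.2)
  set B := mk b S.bz with hB
  set T := mk τ hτz with hT
  set C := mk c hcz with hC
  set D := mk d hdz with hD
  set Y := mk y hyz with hY
  set Y' := mk y' hyz' with hY'
  have e0 : C * D = B * (D * C) := by
    have h1 : mk (c * d) ((show Commute c z from hcz).mul_left hdz).eq = mk (b * q * (d * c))
        (((show Commute b z from S.bz).mul_left (S.mt.ext.central _ hq.1)).mul_left ((show Commute d z from hdz).mul_left hcz)).eq := by
      exact congrArg QuotientGroup.mk (Subtype.ext hcd)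
    rw [hmul _ _ hcz hdz, hmul _ _ ((show Commute b z from S.bz).mul_left (S.mt.ext.central _ hq.1)).eq
      ((show Commute d z from hdz).mul_left hcz).eq, hmul _ _ S.bz (S.mt.ext.central _ hq.1), hmul _ _ hdz hcz,
      hQ q (S.mt.ext.central _ hq.1) hq.1, mul_one] at h1
    exact h1
  have eB : T * B = B⁻¹ * T := by
    have h1 : τ * b = b⁻¹ * τ := mul_inv_eq_iff_eq_mul.1 hτb
    have h2 : mk (τ * b) ((show Commute τ z from hτz).mul_left S.bz).eq =
        mk (b⁻¹ * τ) ((show Commute b z from S.bz).inv_left.mul_left hτz).eq :=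
      congrArg QuotientGroup.mk (Subtype.ext h1)
    rw [hmul _ _ hτz S.bz, hmul _ _ (show Commute b z from S.bz).inv_left.eq hτz] at h2
    exact h2
  have eC : T * C = C * Y * T := by
    have h1 : τ * c = c * x * y * τ := mul_inv_eq_iff_eq_mul.1 hc
    have h2 : mk (τ * c) ((show Commute τ z from hτz).mul_left hcz).eq =
        mk (c * x * y * τ) ((((show Commute c z from hcz).mul_left (S.mt.ext.central _ hx.1)).mul_left hyz).mul_left hτz).eq := by
      exact congrArg QuotientGroup.mk (Subtype.ext h1)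
    rw [hmul _ _ hτz hcz, hmul _ _ (((show Commute c z from hcz).mul_left (S.mt.ext.central _ hx.1)).mul_left hyz).eq hτz,
      hmul _ _ ((show Commute c z from hcz).mul_left (S.mt.ext.central _ hx.1)).eq hyz, hmul _ _ hcz (S.mt.ext.central _ hx.1),
      hQ x (S.mt.ext.central _ hx.1) hx.1, mul_one] at h2
    exact h2
  have eD : T * D = D * Y' * T := by
    have h1 : τ * d = d * x' * y' * τ := mul_inv_eq_iff_eq_mul.1 hd
    have h2 : mk (τ * d) ((show Commute τ z from hτz).mul_left hdz).eq =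
        mk (d * x' * y' * τ) ((((show Commute d z from hdz).mul_left (S.mt.ext.central _ hx'.1)).mul_left hyz').mul_left hτz).eq := by
      exact congrArg QuotientGroup.mk (Subtype.ext h1)
    rw [hmul _ _ hτz hdz, hmul _ _ (((show Commute d z from hdz).mul_left (S.mt.ext.central _ hx'.1)).mul_left hyz').eq hτz,
      hmul _ _ ((show Commute d z from hdz).mul_left (S.mt.ext.central _ hx'.1)).eq hyz', hmul _ _ hdz (S.mt.ext.central _ hx'.1),
      hQ x' (S.mt.ext.central _ hx'.1) hx'.1, mul_one] at h2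
    exact h2
  have cy : ∀ (u w : G) (hu : u * z = z * u) (hw : w * z = z * w), u * w = w * u →
      Commute (mk u hu) (mk w hw) := fun u w hu hw h => by
    show mk u hu * mk w hw = mk w hw * mk u hu
    exact congrArg QuotientGroup.mk (Subtype.ext h)
  have hzc : ∀ (u : G), u * b = b * u → ∀ w ∈ Subgroup.zpowers b, w * u = u * w := fun u hu w hw =>
    (Setup.comm_zpowers hu hw).symm
  have k1 : Commute Y C := cy y c hyz hcz (hzc c hcb y hy)
  have k2 : Commute Y D := cy y d hyz hdz (hzc d hdb y hy)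
  have k3 : Commute Y' C := cy y' c hyz' hcz (hzc c hcb y' hy')
  have k4 : Commute Y' D := cy y' d hyz' hdz (hzc d hdb y' hy')
  have k5 : Commute Y Y' := cy y y' hyz hyz' (Setup.comm_zpowers (hzc b rfl y hy) hy')
  have l1 : T * (C * D) = (C * D) * (Y * Y') * T := by
    rw [← mul_assoc, eC, mul_assoc (C * Y), eD, ← mul_assoc (C * Y), ← mul_assoc (C * Y), mul_assoc C Y D, k2.eq,
      ← mul_assoc, mul_assoc (C * D) Y Y']
  have l2 : T * (D * C) = (D * C) * (Y * Y') * T := by
    rw [← mul_assoc, eD, mul_assoc (D * Y'), eC, ← mul_assoc (D * Y'), ← mul_assoc (D * Y'), mul_assoc D Y' C, k3.eq,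
      ← mul_assoc, mul_assoc (D * C) Y' Y, k5.symm.eq]
  have l3 : T * (C * D) = B⁻¹ * ((D * C) * (Y * Y') * T) := by
    rw [e0, ← mul_assoc T B, eB, mul_assoc, l2]
  have h2 : B = B⁻¹ := by
    have h := l1.symm.trans l3
    rw [e0, mul_assoc B, mul_assoc B] at h
    exact mul_right_cancel h
  have h3 : B * B * B = 1 := by
    have e1 : (⟨b, S.bmem⟩ : Subgroup.centralizer ({z} : Set G)) * ⟨b, S.bmem⟩ * ⟨b, S.bmem⟩ = 1 :=
      Subtype.ext (show b * b * b = 1 by rw [← pow_two, ← pow_succ]; exact S.b_pow)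
    show (QuotientGroup.mk (⟨b, S.bmem⟩ * ⟨b, S.bmem⟩ * ⟨b, S.bmem⟩) :
      Subgroup.centralizer ({z} : Set G) ⧸ Q) = 1
    rw [e1, QuotientGroup.mk_one]
  rw [show B * B = 1 by nth_rw 2 [h2]; exact mul_inv_cancel B, one_mul] at h3
  rw [hB] at h3
  exact S.b_ne (mem_QG.2 ⟨⟨_, (QuotientGroup.eq_one_iff _).1 h3⟩, rfl⟩)

end Cfsg.Agent.Fus.MonsterThree
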