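import Cfsg.Agent.Lib.Fus.MonsterThree.Simple
import Cfsg.Agent.Lib.Fus.M24U.Iso
import Cfsg.Agent.Lib.Fus.Fi24Model.Types
import Cfsg.Agent.Lib.Spor.Cos.Fi24Up.Main
import Cfsg.Agent.Lib.Spor.FischerPrimitive

/-!
The identification of the normaliser of the element of order three modulo that element, given the recognition theorem
for the automorphism group of the largest Fischer group.
-/

set_option autoImplicit false
set_option maxRecDepth 100000
set_option linter.style.haveILetI false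
set_option linter.unusedSectionVars false

noncomputable section

namespace Cfsg.Agent.Fus.MonsterThree

open Cfsg Cfsg.Agent.Spor.Leech Cfsg.Agent.Spor.Leech.OddFix Cfsg.Agent.Spor.Leech.SixFix
open Cfsg.Agent.Spor
open scoped commutatorElement

universe u

/-- The recognition theorem for the automorphism group of the largest Fischer group, as a proposition. -/
def Recognition : Prop :=
  ∀ {X : Type u} [Group X] [Finite X] (G₀ : Subgroup X) (_ : G₀.index = 2) (z : ↥G₀) (_ : orderOf z = 2)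
    (Q N M : Subgroup (Subgroup.centralizer ({z} : Set ↥G₀))) [Q.Normal] [N.Normal] [M.Normal]
    (_ : Cfsg.generalizedFittingSubgroup (Subgroup.centralizer ({z} : Set ↥G₀)) = Q)
    (_ : Cfsg.IsExtraspecial 2 Q) (_ : Nat.card Q = 2 ^ 13) (_ : Q ≤ N) (_ : N ≤ M)
    (_ : Nat.card N = 3 * Nat.card Q) (K : Type) [Field K] [Fintype K] (_ : Fintype.card K = 9)
    (_ : M ⧸ N.subgroupOf M ≃* Cfsg.PSU 4 K 3) (_ : M.index = 2)
    (_ : ∃ g : ↥G₀, (∃ hq : g * z * g⁻¹ ∈ Subgroup.centralizer ({z} : Set ↥G₀),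
      (⟨g * z * g⁻¹, hq⟩ : Subgroup.centralizer ({z} : Set ↥G₀)) ∈ Q) ∧ g * z * g⁻¹ ≠ z)
    (_ : ∃ P : Sylow 2 ↥G₀, z ∈ (P : Subgroup ↥G₀) ∧ ∀ x ∈ (P : Subgroup ↥G₀), Commute x z)
    (_ : (Cfsg.generalizedFittingSubgroup ↥(Subgroup.centralizer ({(z : X)} : Set X))).map (Subgroup.subtype _) =
      ((Q.map (Subgroup.subtype _)).map G₀.subtype)),
    ∃ E : Set X, Cfsg.IsThreeTranspositionClass E ∧ Cfsg.IsOfTypeM24 X E

/-- A simple nonabelian subgroup of index two is the derived group. -/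
theorem commutator_eq {X : Type*} [Group X] {H : Subgroup X} (hi : H.index = 2) [IsSimpleGroup H] {a c : H}
    (hac : a * c ≠ c * a) : commutator X = H := by
  haveI := Subgroup.normal_of_index_eq_two hi
  have hle : commutator X ≤ H := by
    haveI : Fact (Nat.Prime 2) := ⟨Nat.prime_two⟩
    haveI : IsCyclic (X ⧸ H) := isCyclic_of_prime_card (p := 2) hi
    exact Subgroup.Normal.quotient_commutative_iff_commutator_le.mp IsCyclic.isMulCommutative
  refine le_antisymm hle ?_
  have hn : ((commutator X).subgroupOf H).Normal := inferInstance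
  rcases hn.eq_bot_or_eq_top with h | h
  · refine absurd ?_ hac
    have h1 : ⁅(a : X), (c : X)⁆ ∈ commutator X := by
      rw [commutator_def]; exact Subgroup.commutator_mem_commutator (Subgroup.mem_top _) (Subgroup.mem_top _)
    have h2 : (⟨_, hle h1⟩ : H) ∈ (commutator X).subgroupOf H := Subgroup.mem_subgroupOf.2 h1
    rw [h, Subgroup.mem_bot] at h2
    exact Subtype.ext (commutatorElement_eq_one_iff_mul_comm.1 (congrArg Subtype.val h2))
  · exact Subgroup.subgroupOf_eq_top.1 h

/-- A perfect group from a simple quotient by a subgroup in the derived group. -/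
theorem isQuasisimple_of_quot {H T : Type*} [Group H] [Group T] [IsSimpleGroup T] {a c : T} (hac : a * c ≠ c * a)
    (f : H →* T) (hf : Function.Surjective f) (hk : f.ker ≤ commutator H) (hz : f.ker ≤ Subgroup.center H) :
    IsQuasisimple H ∧ Subgroup.center H = f.ker := by
  have hT : commutator T = ⊤ := by
    refine ((inferInstance : (commutator T).Normal).eq_bot_or_eq_top).resolve_left fun h => hac ?_
    have h1 : ⁅a, c⁆ ∈ commutator T := by
      rw [commutator_def]; exact Subgroup.commutator_mem_commutator (Subgroup.mem_top _) (Subgroup.mem_top _)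
    rw [h, Subgroup.mem_bot] at h1
    exact commutatorElement_eq_one_iff_mul_comm.1 h1
  have hmap : (commutator H).map f = ⊤ := by
    rw [commutator_def, Subgroup.map_commutator, Subgroup.map_top_of_surjective f hf, ← commutator_def, hT]
  have hperf : commutator H = ⊤ := by
    rw [← Subgroup.comap_map_eq_self hk, hmap, Subgroup.comap_top]
  have hcen : Subgroup.center H = f.ker := by
    refine le_antisymm (fun x hx => ?_) hz
    have hn : ((Subgroup.center H).map f).Normal := (inferInstance : (Subgroup.center H).Normal).map f hf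
    rcases hn.eq_bot_or_eq_top with h | h
    · have h1 : f x ∈ (Subgroup.center H).map f := Subgroup.mem_map_of_mem f hx
      rw [h, Subgroup.mem_bot] at h1
      exact h1
    · refine absurd ?_ hac
      obtain ⟨a', ha', rfl⟩ := (h ▸ Subgroup.mem_top a : a ∈ (Subgroup.center H).map f)
      obtain ⟨c', rfl⟩ := hf c
      rw [← map_mul, ← map_mul, Subgroup.mem_center_iff.1 ha' c']
  refine ⟨⟨⟨hperf⟩, ?_⟩, hcen⟩
  exact (((QuotientGroup.quotientMulEquivOfEq hcen).trans
    (QuotientGroup.quotientKerEquivOfSurjective f hf)).isSimpleGroup_congr).2 inferInstance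

/-- A member of a type M(24) class commutes with another one. -/
theorem exists_commuting {X : Type*} [Group X] {E : Set X} (h : IsOfTypeM24 X E) :
    ∃ a ∈ E, ∃ c ∈ E, a ≠ c ∧ Commute a c := by
  obtain ⟨-, d, hd, c, hc, -, ⟨-, x, hx, -⟩, -⟩ := h
  obtain ⟨y, hy, -⟩ := hx
  exact ⟨d, hd, (y : X), hy.1, hy.2.1.symm, hy.2.2⟩

/-- A group with a class of type M(24) and a simple derived group is the Fischer group. -/
theorem nonempty_fi24 {X : Type u} [Group X] [Finite X] {E : Set X} (hE : IsThreeTranspositionClass E)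
    (ht : IsOfTypeM24 X E) (hs : IsSimpleGroup (commutator X)) : Nonempty (X ≃* Cfsg.Spor.Fi24) := by
  have hp : IsPrimitiveUnderConj E := (FischerStr.primitive_iff hE ht.1 (exists_commuting ht)).1.1 hs
  have hg : IsThreeTranspositionGroup E :=
    ⟨hE.1, fun g d hd => Cfsg.Agent.Spor.ThreeTrans.conj_mem hE g hd, hE.2.2⟩
  obtain ⟨d, hd, -⟩ := hE.2.1
  obtain ⟨f, -⟩ := M24U.unique hg hp ht Fi24Model.isGroup Fi24Model.primitive Fi24Model.isOfTypeM24 hd
    (d' := Fi24Model.TG Fi24Model.o0) ⟨_, rfl⟩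
  exact ⟨f.trans Cos.Fi24Up.equivGG.symm⟩

variable {G : Type u} [Group G] [Finite G] {z : G} {Q : Subgroup (Subgroup.centralizer ({z} : Set G))}
  [hQn : Q.Normal] {e : (Subgroup.centralizer ({z} : Set G)) ⧸ Q ≃* Cfsg.Spor.Co1}
  {ψ : leechLattice → Q ⧸ Subgroup.center Q} {b s : G} (S : Setup z Q e ψ 3 P0 Bs Gi b s none)
  [hn : (NT b).Normal] [hN : (NZ b).Normal]
  (hswap : ∃ h : G, h * z * h⁻¹ = s ∧ h * b * h⁻¹ ∈ Subgroup.zpowers b)

include S hswap in
/-- The conclusion, given the recognition theorem. -/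
theorem conclusion (hR : Recognition.{u}) :
    Cfsg.IsQuasisimple ↥(CB b) ∧ Cfsg.Spor.IsoFi24' (↥(CB b) ⧸ NT b) ∧
      ∃ E : Set (↥(NB b) ⧸ NZ b), Cfsg.IsThreeTranspositionClass E ∧ Cfsg.IsOfTypeM24 _ E := by
  haveI := QC_normal S
  haveI := isSimple S hswap
  obtain ⟨⟨hord, hfit, hE, hcard, hnwc⟩, N, M, hNn, hMn, hQN, hNM, hNc, ⟨K, _, _, hK, ⟨eM⟩⟩, hM⟩ :=
    large_at_image S hswap
  haveI := hNn
  haveI := hMn
  obtain ⟨E, hcls, htype⟩ := @hR (↥(NB b) ⧸ NZ b) _ _ (G0 b) (G0_index S) (e0 b S.zb) hord (QC S) N M _ _ _ hfit hE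
    hcard hQN hNM hNc K _ _ hK eM hM hnwc (central_sylow S hswap) (gfit_outer S)
  obtain ⟨g₀, -, hne⟩ := hnwc
  have hac : g₀ * e0 b S.zb ≠ e0 b S.zb * g₀ := fun h => hne (by rw [h, mul_inv_cancel_right])
  have hcomm := commutator_eq (G0_index S) hac
  have hs : IsSimpleGroup (commutator (↥(NB b) ⧸ NZ b)) :=
    ((MulEquiv.subgroupCongr hcomm).isSimpleGroup_congr).2 inferInstance
  obtain ⟨f⟩ := nonempty_fi24 hcls htype hs
  have hmap : (commutator (↥(NB b) ⧸ NZ b)).map f.toMonoidHom = commutator Cfsg.Spor.Fi24 := by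
    rw [commutator_def, Subgroup.map_commutator, commutator_def,
      Subgroup.map_top_of_surjective f.toMonoidHom f.surjective]
  refine ⟨?_, ⟨((e0 b).trans (MulEquiv.subgroupCongr hcomm.symm)).trans ((f.subgroupMap _).trans
    (MulEquiv.subgroupCongr hmap))⟩, E, hcls, htype⟩
  refine (isQuasisimple_of_quot hac (toG0 b) toG0_surjective ?_ ?_).1
  · rw [toG0_ker]
    intro x hx
    obtain ⟨k, hk⟩ := Subgroup.mem_zpowers_iff.1 (Subgroup.mem_subgroupOf.1 hx)
    rw [show x = (⟨b, mem_CB.2 rfl⟩ : CB b) ^ k from Subtype.ext (by rw [SubgroupClass.coe_zpow]; exact hk.symm)]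
    exact zpow_mem (mem_derived S) k
  · rw [toG0_ker]
    intro x hx
    refine Subgroup.mem_center_iff.2 fun c => Subtype.ext ?_
    exact (comm_zpow (mem_CB.1 c.2) (Subgroup.mem_subgroupOf.1 hx)).eq

/-- The reduction. -/
theorem reduction (hR : Recognition.{u}) {G : Type u} [Group G] [Finite G] (z : G)
    (Q : Subgroup (Subgroup.centralizer ({z} : Set G))) [Q.Normal] (hM : Cfsg.IsOfMonsterType z Q) (s : G)
    (hsQ : ∃ hsc : s ∈ Subgroup.centralizer ({z} : Set G), (⟨s, hsc⟩ : Subgroup.centralizer ({z} : Set G)) ∈ Q)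
    (hs : IsConj z s) (hs1 : s ≠ z) (Y : Subgroup G) (hY : Y ≤ Subgroup.centralizer ({z, s} : Set G))
    (hY3 : Nat.card Y = 3)
    (hc : ∃ P : Sylow 3 ↥(Subgroup.centralizer ({z, s} : Set G)), Y.subgroupOf (Subgroup.centralizer ({z, s} : Set G)) ≤
      (Subgroup.center ↥(P : Subgroup ↥(Subgroup.centralizer ({z, s} : Set G)))).map
        (P : Subgroup ↥(Subgroup.centralizer ({z, s} : Set G))).subtype)
    [hn : (Y.subgroupOf (Subgroup.centralizer (Y : Set G))).Normal]
    [hn' : (Y.subgroupOf (Subgroup.normalizer (Y : Set G))).Normal] :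
    Cfsg.IsQuasisimple ↥(Subgroup.centralizer (Y : Set G)) ∧
      Cfsg.Spor.IsoFi24' (↥(Subgroup.centralizer (Y : Set G)) ⧸ Y.subgroupOf (Subgroup.centralizer (Y : Set G))) ∧
      ∃ E : Set (↥(Subgroup.normalizer (Y : Set G)) ⧸ Y.subgroupOf (Subgroup.normalizer (Y : Set G))),
        Cfsg.IsThreeTranspositionClass E ∧ Cfsg.IsOfTypeM24 _ E := by
  obtain ⟨hsc, hsQ'⟩ := hsQ
  obtain ⟨e, ψ, b, rfl, S, hswap⟩ := exists_setup hM ⟨⟨s, hsc⟩, hsQ', rfl⟩ hs hs1 Y hY hY3 hc
  exact conclusion S hswap hR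

end Cfsg.Agent.Fus.MonsterThree
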