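import Cfsg.Agent.Lib.Fus.LargeFischerOuter
import Cfsg.Agent.Lib.Fus.LargeFischerLocal

/-!
In a group of large Fischer type a nontrivial normal subgroup contains the extraspecial group, a conjugate of it
reaching outside the half inducing the simple group, and is everything as soon as it contains the centraliser.
-/

set_option autoImplicit false
set_option maxRecDepth 100000
set_option linter.unusedSectionVars false
set_option linter.style.haveILetI false

open Cfsg Cfsg.Agent.Classical Cfsg.Agent.Spor.Cos Cfsg.Agent.Spor.LargeFischer Matrix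
open Cfsg.Agent.Spor.USixTwo (K4 vecOf)
open Cfsg.Agent.Spor.U62U43 (cover62)
open Cfsg.Agent.Fus.LargeFischerScalar Cfsg.Agent.Fus.LargeFischerBlocks

namespace Cfsg.Agent.Fus.MonsterThree.Normal

open scoped commutatorElement

/-- Every unit vector is a sum of two vectors of the long orbit. -/
theorem span_check : ∀ k < 3, ∀ j < 12, (List.range 4096).any
    (fun a => Nat.beq ((dat k).labC a) 2 && Nat.beq ((dat k).labC (a ^^^ 2 ^ j)) 2) = true := by decide +kernel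

/-- Splitting off the top bit. -/
theorem top_bit : ∀ n < 12, ∀ c < 2 ^ n, 2 ^ n ^^^ c = 2 ^ n + c := by decide +kernel

variable {G : Type*} [Group G] [Finite G] {z : G} {Q : Subgroup (Subgroup.centralizer ({z} : Set G))}
  [hQn : Q.Normal] (m : Model z Q) {g₀ : G} (N : Subgroup G) [hNn : N.Normal]

include m in
theorem z_of_mem {c : G} (hc : c ∈ N) (h1 : c ≠ 1) (hcz : c * z = z * c) : z ∈ N := by
  have key : ∀ d ∈ QG Q, d ∈ N → d ≠ 1 → z ∈ N := by
    intro d hd hdN hd1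
    by_cases hdz : d = z
    · exact hdz ▸ hdN
    obtain ⟨q, hq, hne⟩ : ∃ q ∈ QG Q, q * d ≠ d * q := by
      by_contra hcon
      push Not at hcon
      exact (m.ext.cen d hd hcon).elim hd1 hdz
    rcases m.ext.comm q hq d hd with e | e
    · exact absurd (commutatorElement_eq_one_iff_mul_comm.1 e) hne
    · rw [← e]
      exact mul_mem (hNn.conj_mem d hdN q) (inv_mem hdN)
  by_cases hcQ : c ∈ QG Q
  · exact key c hcQ hc h1
  obtain ⟨q, hq, hne⟩ : ∃ q ∈ QG Q, q * c ≠ c * q := by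
    by_contra hcon
    push Not at hcon
    exact hcQ (m.ext.self c hcon)
  refine key ⁅q, c⁆ ?_ ?_ fun e => hne (commutatorElement_eq_one_iff_mul_comm.1 e)
  · rw [commutatorElement_def, show q * c * q⁻¹ * c⁻¹ = q * (c * q⁻¹ * c⁻¹) by group]
    exact mul_mem hq (m.ext.norm c hcz _ (inv_mem hq))
  · rw [commutatorElement_def]
    exact mul_mem (hNn.conj_mem c hc q) (inv_mem hc)

include m in
/-- A nontrivial normal subgroup contains the centre. -/
theorem z_mem (hx : g₀ * z * g₀⁻¹ ∈ QG Q) (hne : g₀ * z * g₀⁻¹ ≠ z) (hN : N ≠ ⊥) : z ∈ N := by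
  by_contra hz
  have hfree : ∀ c ∈ N, c * z = z * c → c = 1 := fun c hc hcz => by
    by_contra h1
    exact hz (z_of_mem m N hc h1 hcz)
  have hzi : z⁻¹ = z := inv_eq_of_mul_eq_one_right m.ext.zz
  let f : N → N := fun n => ⟨(n : G)⁻¹ * (z * (n : G) * z⁻¹), mul_mem (inv_mem n.2) (hNn.conj_mem _ n.2 z)⟩
  have hf : Function.Injective f := fun a a' h => by
    have h' : (a : G)⁻¹ * (z * (a : G) * z⁻¹) = (a' : G)⁻¹ * (z * (a' : G) * z⁻¹) := congrArg Subtype.val h
    have h2 : ((a' : G) * (a : G)⁻¹) * z = z * ((a' : G) * (a : G)⁻¹) := by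
      calc ((a' : G) * (a : G)⁻¹) * z = (a' : G) * ((a : G)⁻¹ * (z * (a : G) * z⁻¹)) * z * (a : G)⁻¹ := by group
        _ = (a' : G) * ((a' : G)⁻¹ * (z * (a' : G) * z⁻¹)) * z * (a : G)⁻¹ := by rw [h']
        _ = z * ((a' : G) * (a : G)⁻¹) := by group
    exact Subtype.ext (mul_inv_eq_one.1 (hfree _ (mul_mem a'.2 (inv_mem a.2)) h2)).symm
  have hinv : ∀ y ∈ N, z * y * z⁻¹ = y⁻¹ := fun y hy => by
    obtain ⟨n, hn⟩ := (Finite.injective_iff_surjective.1 hf) ⟨y, hy⟩
    have hn' : (n : G)⁻¹ * (z * (n : G) * z⁻¹) = y := congrArg Subtype.val hn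
    rw [← hn']
    calc z * ((n : G)⁻¹ * (z * (n : G) * z⁻¹)) * z⁻¹ = z * (n : G)⁻¹ * z * (n : G) * (z⁻¹ * z⁻¹) := by group
      _ = z * (n : G)⁻¹ * z * (n : G) := by rw [← _root_.mul_inv_rev, m.ext.zz, inv_one, mul_one]
      _ = z * (n : G)⁻¹ * z⁻¹ * (n : G) := by rw [hzi]
      _ = ((n : G)⁻¹ * (z * (n : G) * z⁻¹))⁻¹ := by group
  set w := z * (g₀ * z * g₀⁻¹) with hw
  have hwQ : w ∈ QG Q := mul_mem m.ext.mem hx
  have hwc : ∀ y ∈ N, w * y * w⁻¹ = y := fun y hy => by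
    have h1 := hinv _ (hNn.conj_mem y hy g₀⁻¹)
    rw [inv_inv] at h1
    have h2 : g₀ * z * g₀⁻¹ * y * (g₀ * z * g₀⁻¹)⁻¹ = y⁻¹ := by
      calc g₀ * z * g₀⁻¹ * y * (g₀ * z * g₀⁻¹)⁻¹ = g₀ * (z * (g₀⁻¹ * y * g₀) * z⁻¹) * g₀⁻¹ := by group
        _ = y⁻¹ := by rw [h1]; group
    calc w * y * w⁻¹ = z * (g₀ * z * g₀⁻¹ * y * (g₀ * z * g₀⁻¹)⁻¹) * z⁻¹ := by rw [hw]; group
      _ = y := by rw [h2, hinv _ (inv_mem hy), inv_inv]
  obtain ⟨q, hq, hqw⟩ : ∃ q ∈ QG Q, q * w ≠ w * q := by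
    by_contra hcon
    push Not at hcon
    rcases m.ext.cen w hwQ hcon with e | e
    · exact hne ((eq_inv_of_mul_eq_one_right e).trans hzi)
    · exact m.ext.ne (by
        have h1 : g₀ * z * g₀⁻¹ = 1 := mul_left_cancel (a := z) (e.trans (mul_one z).symm)
        rw [mul_inv_eq_one] at h1
        exact mul_left_cancel (a := g₀) (h1.trans (mul_one g₀).symm))
  rcases m.ext.comm q hq w hwQ with e | e
  · exact hqw (commutatorElement_eq_one_iff_mul_comm.1 e)
  refine hN ((Subgroup.eq_bot_iff_forall _).2 fun y hy => hfree y hy ?_)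
  have hc1 : ∀ v ∈ N, Commute w v := fun v hv => mul_inv_eq_iff_eq_mul.1 (hwc v hv)
  have hc2 : Commute (q * w * q⁻¹) y := by
    have h3 := (hc1 (q⁻¹ * y * q) (by simpa using hNn.conj_mem y hy q⁻¹)).map (MulAut.conj q)
    simpa [MulAut.conj_apply, mul_assoc] using h3
  have hc3 := hc2.mul_left (hc1 y hy).inv_left
  rw [← commutatorElement_def, e] at hc3
  exact hc3.eq.symm

include m in
/-- A nontrivial normal subgroup contains the extraspecial group. -/
theorem QG_le (hx : g₀ * z * g₀⁻¹ ∈ QG Q) (hne : g₀ * z * g₀⁻¹ ≠ z) (hN : N ≠ ⊥) : QG Q ≤ N := by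
  have hz := z_mem m N hx hne hN
  obtain ⟨x₀, hx₀⟩ := mem_QG.1 hx
  have hx₀N : gv x₀ ∈ N := by rw [gv, hx₀]; exact hNn.conj_mem z hz g₀
  have hl := lab_of_conj m (s := x₀) (g := g₀) hx₀ hne
  let P : (Fin 6 → K4) → Prop := fun v => ∃ x : Q, gv x ∈ N ∧ m.rep x = v
  have hadd : ∀ v w, P v → P w → P (v + w) := by
    rintro v w ⟨x, hxN, rfl⟩ ⟨y, hyN, rfl⟩
    exact ⟨x * y, mul_mem hxN hyN, m.rep_mul x y⟩
  have hlab : ∀ c < 4096, (dat m.k).labC c = 2 → P (vecOf c) := fun c hc h2 => by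
    obtain ⟨y, hy⟩ := m.rep_surj (vecOf c)
    have hly : m.lab y = 2 := by rw [Model.lab, hy, labV, enc6_vecOf hc]; exact h2
    obtain ⟨u, hu⟩ := m.conj_of_lab (x := x₀) (y := y) (Or.inr hly) (hl.trans hly.symm)
    refine ⟨y, ?_, hy⟩
    show ((y : Subgroup.centralizer ({z} : Set G)) : G) ∈ N
    rw [← hu]
    exact hNn.conj_mem _ hx₀N (u : G)
  have hunit : ∀ j < 12, P (vecOf (2 ^ j)) := fun j hj => by
    have h := span_check m.k m.hk j hj
    simp only [List.any_eq_true, List.mem_range, Bool.and_eq_true, Nat.beq_eq] at h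
    obtain ⟨a, ha, h1, h2⟩ := h
    have hb : a ^^^ 2 ^ j < 2 ^ 12 := Nat.xor_lt_two_pow ha (Nat.pow_lt_pow_right (by norm_num) hj)
    have := hadd _ _ (hlab a ha h1) (hlab _ hb h2)
    rwa [← vecOf_xor, ← Nat.xor_assoc, Nat.xor_self, Nat.zero_xor] at this
  have hall : ∀ n ≤ 12, ∀ c < 2 ^ n, P (vecOf c) := fun n => by
    induction n with
    | zero =>
      intro _ c hc
      rw [pow_zero, Nat.lt_one_iff] at hc
      subst hc
      exact ⟨1, one_mem N, by rw [vecOf_zero, Model.rep_one]⟩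
    | succ n ih =>
      intro hn c hc
      by_cases hlt : c < 2 ^ n
      · exact ih (by omega) c hlt
      have hc' : c - 2 ^ n < 2 ^ n := by rw [pow_succ] at hc; omega
      have := hadd _ _ (hunit n (by omega)) (ih (by omega) _ hc')
      rwa [← vecOf_xor, top_bit n (by omega) _ hc', Nat.add_sub_cancel' (not_lt.1 hlt)] at this
  intro x hxQ
  obtain ⟨x', rfl⟩ := mem_QG.1 hxQ
  obtain ⟨y, hyN, hy⟩ := hall 12 le_rfl (enc6 (m.rep x')) (enc6_lt _)
  rw [vecOf_enc6] at hy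
  rcases m.rep_eq hy with e | e
  · exact (e.symm ▸ hyN : gv x' ∈ N)
  · exact (e.symm ▸ mul_mem hyN hz : gv x' ∈ N)

include m in
/-- A conjugate of the extraspecial group in the normal subgroup: large, small in the extraspecial group, and outside
the half inducing the simple group. -/
theorem exists_conj_group (hx₀ : g₀ * z * g₀⁻¹ ∈ QG Q) (hne₀ : g₀ * z * g₀⁻¹ ≠ z) (hN : N ≠ ⊥) :
    ∃ E : Subgroup (Subgroup.centralizer ({z} : Set G)), (∀ a ∈ E, (a : G) ∈ N) ∧ Nat.card E = 2 ^ 12 ∧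
      Nat.card ↥(E ⊓ Q) ≤ 2 ^ 7 ∧ ¬ E ≤ m.M := by
  have hQN := QG_le m N hx₀ hne₀ hN
  have hk := m.hk
  haveI : IsClass m.k := ⟨hk⟩
  obtain ⟨s₀, hs₀⟩ := mem_QG.1 hx₀
  have l0 := lab_of_conj m (s := s₀) (g := g₀) hs₀ hne₀
  obtain ⟨x2, hx2⟩ := m.rep_surj (rep m.k 2)
  have lx : m.lab x2 = 2 := by rw [Model.lab, hx2, (rep_first m.k hk).2]
  obtain ⟨c, hc⟩ := m.conj_of_lab (Or.inr lx) (l0.trans lx.symm)
  set g : G := (c : G) * g₀ with hg
  have hs : gv x2 = g * z * g⁻¹ := by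
    rw [show gv x2 = (c : G) * gv s₀ * (c : G)⁻¹ from (congrArg Subtype.val hc).symm, show gv s₀ = _ from hs₀, hg]
    group
  have hne : g * z * g⁻¹ ≠ z := fun e => by
    refine (m.of_lab (Or.inr lx)).2.2 ?_
    rw [hs, e]
  have hx : g * z * g⁻¹ ∈ QG Q := hs ▸ mem_QG.2 ⟨x2, rfl⟩
  refine ⟨Es Q g, fun a ha => ?_, card_Es m hx hne, (card_Es_inf (Q := Q) (g := g)).trans_le (card_inter_le m hx hne),
    fun hcon => ?_⟩
  · obtain ⟨q, hq, e⟩ := mem_Es.1 ha
    rw [← e]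
    exact hNn.conj_mem q (hQN hq) g
  obtain ⟨hle, hp, hn⟩ := image_facts m hs (Or.inr lx)
  rw [hx2] at hle hn
  set A := (Es Q g ⊓ m.M).subgroupOf m.M with hA
  have hcA : Nat.card A = Nat.card ↥(Es Q g ⊓ m.M) :=
    Nat.card_congr (Subgroup.subgroupOfEquivOfLe inf_le_right).toEquiv
  have hker : Nat.card ↥(A ⊓ m.lin.ker) ≤ 2 ^ 7 := by
    refine le_trans ?_ ((card_Es_inf (Q := Q) (g := g)).trans_le (card_inter_le m hx hne))
    refine Nat.card_le_card_of_injective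
      (fun a => (⟨(a.1 : Subgroup.centralizer ({z} : Set G)), a.2.1.1, (m.lin_eq_one a.1).1 a.2.2⟩ :
        ↥(Es Q g ⊓ Q))) fun a b e => Subtype.ext (Subtype.ext (congrArg (fun t : ↥(Es Q g ⊓ Q) => (t : Subgroup.centralizer ({z} : Set G))) e))
  have hsplit := Spor.Leech.card_eq_ker_mul_map m.lin A
  have hEq : Es Q g ⊓ m.M = Es Q g := inf_eq_left.2 hcon
  have hle16 : Nat.card (A.map m.lin) ≤ 16 := by
    have hsub : ∀ y : A.map m.lin, y.1 ∈ KerSet m.k := fun y => by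
      have hn' : ((A.map m.lin).subgroupOf (S2 m.k)).Normal := ⟨fun b hb a => hn a.1 a.2 b.1 hb⟩
      exact fixer_mem (⟨y.1, hle y.2⟩ : S2 m.k)
        fun i => fix_all hn' (hp.of_equiv (Subgroup.subgroupOfEquivOfLe hle).symm) _ y.2 i
    choose f hf hfe using hsub
    have h16' : ∀ y, ∃ i : Fin 16, (dat m.k).kerW.getD i.1 [] = f y := fun y => by
      obtain ⟨i, hi, e⟩ := List.getElem_of_mem (hf y)
      exact ⟨⟨i, kerW_lt hk ▸ hi⟩, by rw [List.getD_eq_getElem _ _ hi, e]⟩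
    choose j hj using h16'
    rw [← Nat.card_fin 16]
    refine Nat.card_le_card_of_injective j fun a b e => Subtype.ext ?_
    rw [← hfe a, ← hfe b, ← hj a, ← hj b, e]
  have h12 := card_Es m hx hne
  rw [← hEq, ← hcA, hsplit] at h12
  have := Nat.mul_le_mul hker hle16
  rw [h12] at this
  norm_num at this

include m in
/-- A normal subgroup containing the centraliser is everything. -/
theorem eq_top_of_centralizer_le (hC : Subgroup.centralizer ({z} : Set G) ≤ N) : N = ⊤ := by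
  haveI : Fact (Nat.Prime 2) := ⟨Nat.prime_two⟩
  obtain ⟨T, hT⟩ := (IsPGroup.of_card (p := 2) (n := 13) (G := Q) (by
    rw [← m.card_QG, Subgroup.card_map_of_injective (Subgroup.subtype_injective _)])).exists_le_sylow
  obtain ⟨P, hP⟩ := LargeFischerLocal.exists_sylow_eq m T
  have hPC : (P : Subgroup G) ≤ Subgroup.centralizer ({z} : Set G) := hP ▸ Subgroup.map_subtype_le _
  have hQP : QG Q ≤ (P : Subgroup G) := hP ▸ Subgroup.map_mono hT
  have hnorm : Subgroup.normalizer ((P : Subgroup G) : Set G) ≤ Subgroup.centralizer ({z} : Set G) := by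
    intro g hg
    have hgz : ∀ q ∈ QG Q, q * (g * z * g⁻¹) = g * z * g⁻¹ * q := fun q hq => by
      have h1 : g⁻¹ * q * g ∈ (P : Subgroup G) := by
        have := (Subgroup.mem_normalizer_iff.1 (inv_mem hg) q).1 (hQP hq)
        rwa [inv_inv] at this
      have h2 := Subgroup.mem_centralizer_singleton_iff.1 (hPC h1)
      calc q * (g * z * g⁻¹) = g * ((g⁻¹ * q * g) * z) * g⁻¹ := by group
        _ = g * z * g⁻¹ * q := by rw [h2]; group
    rcases m.ext.cen _ (m.ext.self _ hgz) hgz with e | e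
    · refine absurd ?_ m.ext.ne
      calc z = g⁻¹ * (g * z * g⁻¹) * g := by group
        _ = 1 := by rw [e]; group
    · exact Subgroup.mem_centralizer_singleton_iff.2 (mul_inv_eq_iff_eq_mul.1 e)
  have h := Sylow.normalizer_sup_eq_top (P.subtype (hPC.trans hC))
  rw [Sylow.coe_subtype, Subgroup.map_subgroupOf_eq_of_le (hPC.trans hC), sup_eq_right.2 (hnorm.trans hC)] at h
  exact h

end Cfsg.Agent.Fus.MonsterThree.Normal
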