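import Cfsg.Agent.Lib.Fus.MonsterThree.Derived

/-!
In a group of Monster type the normaliser of the subgroup of order three modulo that subgroup contains the
centraliser section with index two, and the outer centraliser of the new centre has the same generalized Fitting
subgroup.
-/

set_option autoImplicit false
set_option maxRecDepth 100000
set_option linter.style.haveILetI false
set_option linter.unusedSectionVars false

noncomputable section

namespace Cfsg.Agent.Fus.MonsterThree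

open Cfsg Cfsg.Agent.Spor.Leech Cfsg.Agent.Spor.Leech.OddFix Cfsg.Agent.Spor.Leech.SixFix
open Cfsg.Agent.Spor

variable {G : Type*} [Group G]

/-- The normaliser of the subgroup. -/
abbrev NB (b : G) : Subgroup G := Subgroup.normalizer ((Subgroup.zpowers b : Subgroup G) : Set G)

/-- The subgroup divided out in the normaliser. -/
abbrev NZ (b : G) : Subgroup (NB b) := (Subgroup.zpowers b).subgroupOf (NB b)

theorem CB_le_NB {b : G} : CB b ≤ NB b := Subgroup.centralizer_le_normalizer _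

theorem comm_zpow {b x y : G} (hx : x * b = b * x) (hy : y ∈ Subgroup.zpowers b) : Commute x y := by
  obtain ⟨k, rfl⟩ := Subgroup.mem_zpowers_iff.1 hy
  exact (show Commute x b from hx).zpow_right k

variable {z : G} {Q : Subgroup (Subgroup.centralizer ({z} : Set G))} [hQn : Q.Normal]
  {e : (Subgroup.centralizer ({z} : Set G)) ⧸ Q ≃* Cfsg.Spor.Co1} {ψ : leechLattice → Q ⧸ Subgroup.center Q}
  {b s : G}

theorem pow_three_cases [Finite G] (S : Setup z Q e ψ 3 P0 Bs Gi b s none) {y : G} (hy : y ∈ Subgroup.zpowers b) :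
    y = 1 ∨ y = b ∨ y = b⁻¹ := by
  obtain ⟨k, rfl⟩ := Subgroup.mem_zpowers_iff.1 hy
  have h3 : b ^ (3 : ℤ) = 1 := by exact_mod_cast S.b_pow
  rw [← Int.emod_add_mul_ediv k 3, zpow_add, zpow_mul, h3, one_zpow, mul_one]
  have h : k % 3 = 0 ∨ k % 3 = 1 ∨ k % 3 = 2 := by omega
  rcases h with h | h | h <;> rw [h]
  · exact Or.inl (zpow_zero b)
  · exact Or.inr (Or.inl (zpow_one b))
  · refine Or.inr (Or.inr (eq_inv_of_mul_eq_one_left ?_))
    rw [← zpow_add_one]
    exact h3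

variable [Finite G] (S : Setup z Q e ψ 3 P0 Bs Gi b s none)

include S in
theorem b_ne_inv : b⁻¹ ≠ b := fun h => by
  have h1 : b = 1 := S.odd_one (Subgroup.mem_zpowers b) (by nth_rw 1 [← h]; exact inv_mul_cancel b)
  have h2 := S.ord
  rw [h1, orderOf_one] at h2
  omega

include S in
theorem conj_cases {g : G} (hg : g ∈ NB b) : g * b = b * g ∨ g * b * g⁻¹ = b⁻¹ := by
  have hm : g * b * g⁻¹ ∈ Subgroup.zpowers b :=
    (Subgroup.mem_normalizer_iff.1 hg b).1 (Subgroup.mem_zpowers b)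
  rcases pow_three_cases S hm with h | h | h
  · exfalso
    have h1 : b = 1 := by
      calc b = g⁻¹ * (g * b * g⁻¹) * g := by group
        _ = 1 := by rw [h]; group
    exact b_ne_inv S (by rw [h1, inv_one])
  · exact Or.inl (mul_inv_eq_iff_eq_mul.1 h)
  · exact Or.inr h

include S in
theorem zmemN : z ∈ NB b := CB_le_NB (mem_CB.2 S.bz.symm)

variable [hn : (NT b).Normal] [hN : (NZ b).Normal]

/-- The class in the quotient of the normaliser. -/
abbrev xm (g : G) (hg : g ∈ NB b) : ↥(NB b) ⧸ NZ b := QuotientGroup.mk ⟨g, hg⟩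

theorem xm_eq {g h : G} {hg : g ∈ NB b} {hh : h ∈ NB b} : xm g hg = xm h hh ↔ g⁻¹ * h ∈ Subgroup.zpowers b := by
  rw [QuotientGroup.eq, Subgroup.mem_subgroupOf]
  rfl

/-- The image of the centraliser. -/
abbrev G0 (b : G) [(NZ b).Normal] : Subgroup (↥(NB b) ⧸ NZ b) :=
  ((CB b).subgroupOf (NB b)).map (QuotientGroup.mk' (NZ b))

theorem mem_G0 {g : G} {hg : g ∈ NB b} : xm g hg ∈ G0 b ↔ g * b = b * g := by
  constructor
  · rintro ⟨⟨h, hh⟩, hc, he⟩
    have he' : xm h hh = xm g hg := he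
    rw [xm_eq] at he'
    have hb : h * b = b * h := mem_CB.1 hc
    have h1 : Commute (h * (h⁻¹ * g)) b :=
      (show Commute h b from hb).mul_left (comm_zpow rfl he').symm
    rwa [mul_inv_cancel_left] at h1
  · exact fun h => ⟨⟨g, hg⟩, mem_CB.2 h, rfl⟩

include S in
/-- The index is two. -/
theorem G0_index : (G0 b).index = 2 := by
  obtain ⟨τ, -, hτ⟩ := exists_inverter S
  have hτN : τ ∈ NB b := by
    refine Subgroup.mem_normalizer_iff.2 fun y => ?_
    constructor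
    · intro hy
      obtain ⟨k, rfl⟩ := Subgroup.mem_zpowers_iff.1 hy
      rw [← conj_zpow, hτ]
      exact zpow_mem (inv_mem (Subgroup.mem_zpowers b)) k
    · intro hy
      obtain ⟨k, hk⟩ := Subgroup.mem_zpowers_iff.1 hy
      have e1 : τ⁻¹ * b * τ = b⁻¹ := by
        calc τ⁻¹ * b * τ = τ⁻¹ * (τ * b * τ⁻¹)⁻¹ * τ := by rw [hτ, inv_inv]
          _ = b⁻¹ := by group
      have e2 : y = (τ⁻¹ * b * τ) ^ k := by
        have := conj_zpow (i := k) (a := τ⁻¹) (b := b)
        rw [inv_inv] at this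
        rw [this, hk]
        group
      rw [e2, e1]
      exact zpow_mem (inv_mem (Subgroup.mem_zpowers b)) k
  have hτ' : ¬ τ * b = b * τ := fun h => b_ne_inv S (by rw [← hτ, h, mul_inv_cancel_right])
  refine Subgroup.index_eq_two_iff.2 ⟨xm τ hτN, fun u => ?_⟩
  obtain ⟨⟨g, hg⟩, rfl⟩ := QuotientGroup.mk'_surjective (NZ b) u
  show Xor (xm (g * τ) (mul_mem hg hτN) ∈ G0 b) (xm g hg ∈ G0 b)
  rw [mem_G0, mem_G0]
  rcases conj_cases S hg with h | h
  · refine Or.inr ⟨h, fun h' => hτ' ?_⟩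
    calc τ * b = g⁻¹ * (g * τ * b) := by group
      _ = g⁻¹ * (b * (g * τ)) := by rw [h']
      _ = g⁻¹ * ((b * g) * τ) := by group
      _ = g⁻¹ * ((g * b) * τ) := by rw [h]
      _ = b * τ := by group
  · refine Or.inl ⟨mul_inv_eq_iff_eq_mul.1 ?_, fun h' => b_ne_inv S ?_⟩
    · calc g * τ * b * (g * τ)⁻¹ = g * (τ * b * τ⁻¹) * g⁻¹ := by group
        _ = (g * b * g⁻¹)⁻¹ := by rw [hτ]; group
        _ = b := by rw [h, inv_inv]
    · rw [← h, h', mul_inv_cancel_right]

/-- The map of the centraliser onto the image. -/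
def toG0 (b : G) [(NZ b).Normal] : CB b →* G0 b :=
  ((QuotientGroup.mk' (NZ b)).comp (Subgroup.inclusion CB_le_NB)).codRestrict _ fun c =>
    ⟨Subgroup.inclusion CB_le_NB c, c.2, rfl⟩

theorem toG0_surjective : Function.Surjective (toG0 b) := by
  rintro ⟨_, ⟨g, hg, rfl⟩⟩
  exact ⟨⟨(g : G), hg⟩, Subtype.ext rfl⟩

theorem toG0_ker : (toG0 b).ker = NT b := by
  ext c
  rw [MonoidHom.mem_ker, ← Subtype.val_inj, OneMemClass.coe_one, Subgroup.mem_subgroupOf]
  exact (QuotientGroup.eq_one_iff (Subgroup.inclusion CB_le_NB c)).trans Subgroup.mem_subgroupOf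

/-- The section is the image. -/
def e0 (b : G) [(NT b).Normal] [(NZ b).Normal] : CB b ⧸ NT b ≃* G0 b :=
  (QuotientGroup.quotientMulEquivOfEq toG0_ker.symm).trans
    (QuotientGroup.quotientKerEquivOfSurjective (toG0 b) toG0_surjective)

theorem e0_mk (c : CB b) : ((e0 b (QuotientGroup.mk' (NT b) c) : G0 b) : ↥(NB b) ⧸ NZ b) =
    xm (c : G) (CB_le_NB c.2) := rfl

/-- The new centre in the quotient of the normaliser. -/
def zX : ↥(NB b) ⧸ NZ b := xm z (zmemN S)

theorem zX_eq : ((e0 b S.zb : G0 b) : ↥(NB b) ⧸ NZ b) = zX S := rfl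

/-- The outer centraliser. -/
abbrev CX : Subgroup (↥(NB b) ⧸ NZ b) := Subgroup.centralizer ({zX S} : Set (↥(NB b) ⧸ NZ b))

theorem xm_mem_CX {g : G} (hg : g ∈ NB b) (hz : g * z = z * g) : xm g hg ∈ CX S :=
  Subgroup.mem_centralizer_singleton_iff.2 (congrArg QuotientGroup.mk (Subtype.ext hz))

theorem exists_rep_CX (u : CX S) :
    ∃ (g : G) (hg : g ∈ NB b), g * z = z * g ∧ (u : ↥(NB b) ⧸ NZ b) = xm g hg := by
  obtain ⟨⟨g, hg⟩, hu⟩ := QuotientGroup.mk'_surjective (NZ b) (u : ↥(NB b) ⧸ NZ b)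
  refine ⟨g, hg, ?_, hu.symm⟩
  have h : xm (g * z) (mul_mem hg (zmemN S)) = xm (z * g) (mul_mem (zmemN S) hg) := by
    have h' := Subgroup.mem_centralizer_singleton_iff.1 u.2
    rw [← hu] at h'
    exact h'
  rw [xm_eq] at h
  -- the commutator is a power of odd order
  set d := (g * z)⁻¹ * (z * g) with hd
  have hdz : Commute d z := by
    obtain ⟨k, hk⟩ := Subgroup.mem_zpowers_iff.1 h
    rw [← hk]
    exact (show Commute b z from S.bz).zpow_left k
  have e1 : g⁻¹ * z * g = z * d := by rw [hd]; group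
  have e2 : z * d * (z * d) = 1 := by
    rw [← e1]
    calc g⁻¹ * z * g * (g⁻¹ * z * g) = g⁻¹ * (z * z) * g := by group
      _ = 1 := by rw [S.mt.z_sq]; group
  have hd2 : d * d = 1 := by
    calc d * d = z * z * (d * d) := by rw [S.mt.z_sq, one_mul]
      _ = z * (z * d) * d := by group
      _ = z * (d * z) * d := by rw [hdz.eq]
      _ = 1 := by rw [← e2]; group
  rw [S.odd_one h hd2, mul_one] at e1
  calc g * z = g * (g⁻¹ * z * g) := by rw [e1]
    _ = z * g := by group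

/-- The map of the new centraliser into the outer one. -/
def j : S.Dz →* CX S :=
  (((G0 b).subtype.comp (e0 b).toMonoidHom).comp S.Dz.subtype).codRestrict _ fun d => by
    obtain ⟨c, rfl⟩ := S.pi_surjective d
    exact xm_mem_CX S (CB_le_NB (c : CB b).2) (S.comm_z c)

theorem j_pi (c : S.Cz) :
    ((j S (S.pi c) : CX S) : ↥(NB b) ⧸ NZ b) = xm ((c : CB b) : G) (CB_le_NB (c : CB b).2) := rfl

theorem j_injective : Function.Injective (j S) := fun x y h => by
  have h' : ((e0 b (x : CB b ⧸ NT b) : G0 b) : ↥(NB b) ⧸ NZ b) = e0 b (y : CB b ⧸ NT b) :=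
    congrArg (fun w : CX S => (w : ↥(NB b) ⧸ NZ b)) h
  exact Subtype.ext ((e0 b).injective (Subtype.ext h'))

theorem j_range : (j S).range = (G0 b).subgroupOf (CX S) := by
  ext u
  rw [Subgroup.mem_subgroupOf]
  constructor
  · rintro ⟨d, rfl⟩
    exact (e0 b (d : CB b ⧸ NT b)).2
  · intro hu
    obtain ⟨g, hg, hgz, hgu⟩ := exists_rep_CX S u
    rw [hgu, mem_G0] at hu
    exact ⟨S.pi (S.mkC g hgz hu), Subtype.ext ((j_pi S _).trans hgu.symm)⟩

/-- The extraspecial group in the outer centraliser. -/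
abbrev RX : Subgroup (CX S) := S.R.map (j S)

theorem mem_RX {u : CX S} :
    u ∈ RX S ↔ ∃ x : S.Q0, (u : ↥(NB b) ⧸ NZ b) = xm (x : G) (CB_le_NB (mem_CB.2 (S.mem_Q0.1 x.2).2)) := by
  constructor
  · rintro ⟨_, ⟨x, rfl⟩, rfl⟩
    exact ⟨x, rfl⟩
  · rintro ⟨x, hx⟩
    exact ⟨_, ⟨x, rfl⟩, Subtype.ext hx.symm⟩

theorem RX_normal : (RX S).Normal := by
  refine ⟨fun u hu w => ?_⟩
  obtain ⟨x, hx⟩ := (mem_RX S).1 hu
  obtain ⟨g, hg, hgz, hgw⟩ := exists_rep_CX S w
  have hb : g * (x : G) * g⁻¹ * b = b * (g * (x : G) * g⁻¹) := by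
    rcases conj_cases S hg with h | h
    · exact (((show Commute g b from h).mul_left (show Commute (x : G) b from (S.mem_Q0.1 x.2).2)).mul_left
        (show Commute g b from h).inv_left).eq
    · have hc : Commute (g * (x : G) * g⁻¹) b⁻¹ := by
        show g * (x : G) * g⁻¹ * b⁻¹ = b⁻¹ * (g * (x : G) * g⁻¹)
        rw [← h]
        calc g * (x : G) * g⁻¹ * (g * b * g⁻¹) = g * ((x : G) * b) * g⁻¹ := by group
          _ = g * (b * (x : G)) * g⁻¹ := by rw [(S.mem_Q0.1 x.2).2]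
          _ = _ := by group
      have := hc.inv_right
      rw [inv_inv] at this
      exact this.eq
  refine (mem_RX S).2 ⟨⟨_, S.mem_Q0.2 ⟨S.mt.ext.norm g hgz _ x.2.1, hb⟩⟩, ?_⟩
  rw [Subgroup.coe_mul, Subgroup.coe_mul, Subgroup.coe_inv, hgw, hx]
  rfl

theorem DX_normal : (j S).range.Normal := by
  rw [j_range]
  haveI := Subgroup.normal_of_index_eq_two (G0_index S)
  infer_instance

/-- Nothing outside acts trivially on the inner centraliser modulo the extraspecial group. -/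
theorem no_outer (u : CX S) (hu : ∀ d ∈ (j S).range, d⁻¹ * (u * d * u⁻¹) ∈ RX S) : u ∈ (j S).range := by
  by_contra hnot
  obtain ⟨g, hg, hgz, hgu⟩ := exists_rep_CX S u
  have hgb : g * b * g⁻¹ = b⁻¹ := (conj_cases S hg).resolve_left fun h => hnot (by
    rw [j_range, Subgroup.mem_subgroupOf, hgu, mem_G0]; exact h)
  obtain ⟨c, hcz, hcb, hmove⟩ := exists_moved S hgz hgb
  let d : CX S := j S (S.pi (S.mkC c hcz hcb))
  have hcN : c ∈ NB b := CB_le_NB (mem_CB.2 hcb)
  obtain ⟨x, hx⟩ := (mem_RX S).1 (hu d ⟨_, rfl⟩)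
  rw [Subgroup.coe_mul, Subgroup.coe_inv, Subgroup.coe_mul, Subgroup.coe_mul, Subgroup.coe_inv, hgu,
    show (d : ↥(NB b) ⧸ NZ b) = xm c hcN from rfl] at hx
  have hx' : xm (c⁻¹ * (g * c * g⁻¹)) (mul_mem (inv_mem hcN) (mul_mem (mul_mem hg hcN) (inv_mem hg))) =
      xm (x : G) (CB_le_NB (mem_CB.2 (S.mem_Q0.1 x.2).2)) := hx
  rw [xm_eq] at hx'
  refine hmove x x.2 _ (inv_mem hx') ?_
  group

theorem pCore_Dz : Cfsg.pCore 2 S.Dz ≤ S.R := by
  haveI : Fact (Nat.Prime 2) := ⟨Nat.prime_two⟩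
  intro x hx
  have h := quot.core _ ((Grp.pCore_isNormal : (Cfsg.pCore 2 S.Dz).Normal).map _ (S.Phi_surjective quot))
    ((Grp.pCore_isPGroup (p := 2) (G := S.Dz)).map _)
  rw [← S.ker_Phi quot, MonoidHom.mem_ker, ← Subgroup.mem_bot, ← h]
  exact ⟨x, hx, rfl⟩

theorem pCore_CX : Cfsg.pCore 2 (CX S) = RX S := by
  haveI : Fact (Nat.Prime 2) := ⟨Nat.prime_two⟩
  haveI := S.R_normal
  refine le_antisymm ?_ (le_sSup ⟨RX_normal S, ((IsPGroup.of_card S.card_R).map _)⟩)
  have hP : (Cfsg.pCore 2 (CX S)).Normal := Grp.pCore_isNormal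
  have hin : ∀ u ∈ Cfsg.pCore 2 (CX S), u ∈ (j S).range → u ∈ RX S := by
    rintro _ hu ⟨d, rfl⟩
    refine Subgroup.mem_map_of_mem _ (pCore_Dz S ?_)
    have hle : (Cfsg.pCore 2 (CX S)).comap (j S) ≤ Cfsg.pCore 2 S.Dz :=
      le_sSup ⟨hP.comap _, (Grp.pCore_isPGroup (p := 2) (G := CX S)).comap_of_injective _ (j_injective S)⟩
    exact hle hu
  intro u hu
  refine hin u hu (no_outer S u fun d hd => hin _ ?_ ?_)
  · have h1 := mul_mem (hP.conj_mem _ hu d⁻¹) (inv_mem hu)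
    rwa [show d⁻¹ * u * d⁻¹⁻¹ * u⁻¹ = d⁻¹ * (u * d * u⁻¹) by group] at h1
  · exact mul_mem (inv_mem hd) ((DX_normal S).conj_mem _ hd u)

theorem centralizer_RX : Subgroup.centralizer (RX S : Set (CX S)) ≤ RX S := by
  have hin : ∀ u ∈ Subgroup.centralizer (RX S : Set (CX S)), u ∈ (j S).range → u ∈ RX S := by
    rintro _ hu ⟨d, rfl⟩
    refine Subgroup.mem_map_of_mem _ (S.centralizer_R_le quot ?_)
    refine Subgroup.mem_centralizer_iff.2 fun r hr => j_injective S ?_
    rw [map_mul, map_mul]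
    exact Subgroup.mem_centralizer_iff.1 hu _ ⟨r, hr, rfl⟩
  haveI := RX_normal S
  have hC : (Subgroup.centralizer (RX S : Set (CX S))).Normal := inferInstance
  intro u hu
  refine hin u hu (no_outer S u fun d hd => hin _ ?_ ?_)
  · have h1 := mul_mem (hC.conj_mem _ hu d⁻¹) (inv_mem hu)
    rwa [show d⁻¹ * u * d⁻¹⁻¹ * u⁻¹ = d⁻¹ * (u * d * u⁻¹) by group] at h1
  · exact mul_mem (inv_mem hd) ((DX_normal S).conj_mem _ hd u)

/-- The generalized Fitting subgroup of the outer centraliser. -/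
theorem gfit_CX : Cfsg.generalizedFittingSubgroup (CX S) = RX S := by
  haveI : Fact (Nat.Prime 2) := ⟨Nat.prime_two⟩
  rw [Fus.generalizedFittingSubgroup_eq_of_charP (p := 2) (by
    show Subgroup.centralizer (Cfsg.pCore 2 (CX S) : Set (CX S)) ≤ Cfsg.pCore 2 (CX S)
    rw [pCore_CX S]; exact centralizer_RX S), pCore_CX S]

end Cfsg.Agent.Fus.MonsterThree
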