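import Cfsg.Agent.Lib.Fus.MonsterThree.Outer
import Cfsg.Agent.Lib.Fus.M23U.Three.Transport
import Cfsg.Agent.Lib.Fus.LargeFischerLocal

/-!
In a group of Monster type the normaliser of the subgroup of order three modulo that subgroup satisfies the hypotheses
of the recognition theorem for the automorphism group of the largest Fischer group.
-/

set_option autoImplicit false
set_option maxRecDepth 100000
set_option linter.style.haveILetI false
set_option linter.unusedSectionVars false

noncomputable section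

namespace Cfsg.Agent.Fus.MonsterThree

open Cfsg Cfsg.Agent.Spor.Leech Cfsg.Agent.Spor.Leech.OddFix Cfsg.Agent.Spor.Leech.SixFix
open Cfsg.Agent.Spor
open Cfsg.Agent.Spor.UFourThree (G43 K9)

/-- The isomorphism of centralisers. -/
def centEquiv {A B : Type*} [Group A] [Group B] (φ : A ≃* B) (a : A) :
    Subgroup.centralizer ({a} : Set A) ≃* Subgroup.centralizer ({φ a} : Set B) :=
  (φ.subgroupMap _).trans (MulEquiv.subgroupCongr (by
    ext y
    rw [Subgroup.mem_map, Subgroup.mem_centralizer_singleton_iff]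
    constructor
    · rintro ⟨x, hx, rfl⟩
      show φ x * φ a = φ a * φ x
      rw [← map_mul, ← map_mul, Subgroup.mem_centralizer_singleton_iff.1 hx]
    · intro hy
      exact ⟨φ.symm y, Subgroup.mem_centralizer_singleton_iff.2 (φ.injective (by simpa using hy)), φ.apply_symm_apply y⟩))

/-- Large Fischer type goes along an isomorphism. -/
theorem largeAt_map {A B : Type*} [Group A] [Finite A] [Group B] (φ : A ≃* B) {a : A}
    {Q : Subgroup (Subgroup.centralizer ({a} : Set A))} [Q.Normal] (h : IsOfLargeFischerTypeAt a Q)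
    [(Q.map (centEquiv φ a).toMonoidHom).Normal]
    (hF : Subgroup.centralizer (Cfsg.pCore 2 (Subgroup.centralizer ({a} : Set A)) : Set _) ≤
      Cfsg.pCore 2 (Subgroup.centralizer ({a} : Set A)))
    (hQ : Cfsg.pCore 2 (Subgroup.centralizer ({a} : Set A)) = Q) :
    IsOfLargeFischerTypeAt (φ a) (Q.map (centEquiv φ a).toMonoidHom) := by
  haveI : Fact (Nat.Prime 2) := ⟨Nat.prime_two⟩
  set ψ := centEquiv φ a with hψ
  obtain ⟨⟨hord, -, hE, hcard, g, ⟨hg, hgQ⟩, hne⟩, N, M, hNn, hMn, hQN, hNM, hN, ⟨K, _, _, hK, ⟨e⟩⟩, hM⟩ := h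
  have hc : ∀ H : Subgroup (Subgroup.centralizer ({a} : Set A)), Nat.card (H.map ψ.toMonoidHom) = Nat.card H :=
    fun H => Subgroup.card_map_of_injective (show Function.Injective ψ.toMonoidHom from ψ.injective)
  refine ⟨⟨by rw [MulEquiv.orderOf_eq, hord], by rw [M23U.Three.gfit_map ψ hF, hQ],
    M23U.Three.extraspecial_map (ψ.subgroupMap Q) hE, by rw [hc, hcard], φ g, ⟨?_, ?_⟩, ?_⟩,
    N.map ψ.toMonoidHom, M.map ψ.toMonoidHom, hNn.map _ ψ.surjective, hMn.map _ ψ.surjective,
    Subgroup.map_mono hQN, Subgroup.map_mono hNM, by rw [hc, hc, hN], ⟨K, inferInstance, inferInstance, hK, ?_⟩, ?_⟩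
  · rw [← map_inv, ← map_mul, ← map_mul]
    exact (centEquiv φ a ⟨_, hg⟩).2
  · refine ⟨⟨_, hg⟩, hgQ, Subtype.ext ?_⟩
    show φ (g * a * g⁻¹) = φ g * φ a * (φ g)⁻¹
    rw [map_mul, map_mul, map_inv]
  · rw [← map_inv, ← map_mul, ← map_mul]
    exact fun h => hne (φ.injective h)
  · haveI : (N.map ψ.toMonoidHom).Normal := hNn.map _ ψ.surjective
    refine ⟨(QuotientGroup.congr (N.subgroupOf M) ((N.map ψ.toMonoidHom).subgroupOf (M.map ψ.toMonoidHom))
      (ψ.subgroupMap M) ?_).symm.trans e⟩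
    ext y
    rw [Subgroup.mem_subgroupOf]
    constructor
    · rintro ⟨x, hx, rfl⟩
      exact ⟨(x : Subgroup.centralizer ({a} : Set A)), hx, rfl⟩
    · rintro ⟨x, hx, hxy⟩
      exact ⟨⟨x, hNM hx⟩, hx, Subtype.ext hxy⟩
  · rw [Subgroup.index_map_of_bijective (show Function.Bijective ψ.toMonoidHom from ψ.bijective), hM]

variable {G : Type*} [Group G] [Finite G] {z : G} {Q : Subgroup (Subgroup.centralizer ({z} : Set G))} [hQn : Q.Normal]
  {e : (Subgroup.centralizer ({z} : Set G)) ⧸ Q ≃* Cfsg.Spor.Co1} {ψ : leechLattice → Q ⧸ Subgroup.center Q}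
  {b s : G} (S : Setup z Q e ψ 3 P0 Bs Gi b s none) [hn : (NT b).Normal] [hN : (NZ b).Normal]
  (hswap : ∃ h : G, h * z * h⁻¹ = s ∧ h * b * h⁻¹ ∈ Subgroup.zpowers b)

include hswap in
/-- The section is of large Fischer type at the new centre. -/
theorem large_at : haveI := S.R_normal; IsOfLargeFischerTypeAt S.zb S.R := by
  haveI := S.R_normal
  haveI := zp_normal
  haveI := K0_normal
  let N : Subgroup S.Dz := (Subgroup.zpowers om).comap (S.Phi quot)
  let M : Subgroup S.Dz := K0.comap (S.Phi quot)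
  have hzk : Subgroup.zpowers om ≤ K0 := Subgroup.zpowers_le.2 om_mem
  refine ⟨S.setting quot hswap exists_norm (by norm_num) (by norm_num), N, M,
    (zp_normal).comap _, K0_normal.comap _, ?_, Subgroup.comap_mono hzk, ?_, ?_, ?_⟩
  · exact (S.ker_Phi quot).symm.le.trans (Subgroup.ker_le_comap _ _)
  · rw [card_eq_ker_mul_map (S.Phi quot) N, inf_eq_right.2 (Subgroup.ker_le_comap _ _),
      Subgroup.map_comap_eq_self_of_surjective (S.Phi_surjective quot), S.ker_Phi quot, Nat.card_zpowers, order_om,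
      Nat.mul_comm]
  · refine ⟨K9, inferInstance, inferInstance, K9.card_eq, ?_⟩
    obtain ⟨η⟩ := nonempty_iso
    let f : M →* K0 ⧸ (Subgroup.zpowers om).subgroupOf K0 :=
      (QuotientGroup.mk' _).comp ((S.Phi quot).subgroupComap K0)
    have hf : Function.Surjective f := (QuotientGroup.mk'_surjective _).comp
      (MonoidHom.subgroupComap_surjective_of_surjective _ K0 (S.Phi_surjective quot))
    have hker : f.ker = N.subgroupOf M := by
      ext x
      rw [MonoidHom.mem_ker, MonoidHom.comp_apply, QuotientGroup.mk'_apply, QuotientGroup.eq_one_iff,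
        Subgroup.mem_subgroupOf, Subgroup.mem_subgroupOf]
      rfl
    exact ⟨((QuotientGroup.quotientMulEquivOfEq hker.symm).trans
      (QuotientGroup.quotientKerEquivOfSurjective f hf)).trans η⟩
  · show (K0.comap (S.Phi quot)).index = 2
    rw [Subgroup.index_comap_of_surjective _ (S.Phi_surjective quot), index_K0]

/-- The extraspecial group at the new centre. -/
abbrev QC : Subgroup (Subgroup.centralizer ({e0 b S.zb} : Set (G0 b))) :=
  S.R.map (centEquiv (e0 b) S.zb).toMonoidHom

theorem QC_normal : (QC S).Normal := S.R_normal.map _ (centEquiv (e0 b) S.zb).surjective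

theorem pCore_Dz_eq : Cfsg.pCore 2 S.Dz = S.R := by
  haveI : Fact (Nat.Prime 2) := ⟨Nat.prime_two⟩
  exact le_antisymm (pCore_Dz S) (le_sSup ⟨S.R_normal, IsPGroup.of_card S.card_R⟩)

include hswap in
theorem large_at_image : haveI := QC_normal S; IsOfLargeFischerTypeAt (e0 b S.zb) (QC S) := by
  haveI := S.R_normal
  haveI := QC_normal S
  exact largeAt_map (e0 b) (large_at S hswap) (by rw [pCore_Dz_eq]; exact S.centralizer_R_le quot) (pCore_Dz_eq S)

include hswap in
/-- The centre is central in a Sylow subgroup. -/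
theorem central_sylow : ∃ P : Sylow 2 (G0 b), e0 b S.zb ∈ (P : Subgroup (G0 b)) ∧
    ∀ x ∈ (P : Subgroup (G0 b)), Commute x (e0 b S.zb) := by
  haveI : Fact (Nat.Prime 2) := ⟨Nat.prime_two⟩
  haveI := QC_normal S
  obtain ⟨m⟩ := Cfsg.Agent.Spor.LargeFischer.exists_model (large_at_image S hswap)
  let zh : Subgroup.centralizer ({e0 b S.zb} : Set (G0 b)) :=
    ⟨_, Subgroup.mem_centralizer_singleton_iff.2 rfl⟩
  obtain ⟨T, hT⟩ := (IsPGroup.of_card (p := 2) (n := 1) (show Nat.card (Subgroup.zpowers zh) = 2 ^ 1 by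
    rw [Nat.card_zpowers, ← Subgroup.orderOf_coe, MulEquiv.orderOf_eq, S.zb_order, pow_one])).exists_le_sylow
  obtain ⟨P, hP⟩ := LargeFischerLocal.exists_sylow_eq m T
  refine ⟨P, hP ▸ ⟨zh, hT (Subgroup.mem_zpowers _), rfl⟩, fun x hx => ?_⟩
  obtain ⟨y, -, rfl⟩ := hP ▸ hx
  exact Subgroup.mem_centralizer_singleton_iff.1 y.2

/-- The outer centraliser has the same generalized Fitting subgroup. -/
theorem gfit_outer : (Cfsg.generalizedFittingSubgroup
      ↥(Subgroup.centralizer ({((e0 b S.zb : G0 b) : ↥(NB b) ⧸ NZ b)} : Set (↥(NB b) ⧸ NZ b)))).map (Subgroup.subtype _) =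
    ((QC S).map (Subgroup.subtype _)).map (G0 b).subtype := by
  show (Cfsg.generalizedFittingSubgroup (CX S)).map (CX S).subtype = _
  rw [gfit_CX, Subgroup.map_map, Subgroup.map_map, Subgroup.map_map]
  rfl

end Cfsg.Agent.Fus.MonsterThree
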