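import Cfsg.Agent.Lib.Fus.MonsterThree.Section
import Cfsg.Agent.Lib.Fus.MonsterThree.Normal

/-!
In a group of Monster type the centraliser of the element of order three modulo that element is simple.
-/

set_option autoImplicit false
set_option maxRecDepth 100000
set_option linter.style.haveILetI false
set_option linter.unusedSectionVars false

noncomputable section

namespace Cfsg.Agent.Fus.MonsterThree

open Cfsg Cfsg.Agent.Spor.Leech Cfsg.Agent.Spor.Leech.OddFix Cfsg.Agent.Spor.Leech.SixFix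
open Cfsg.Agent.Spor
open Cfsg.Agent.Spor.UFourThree (G43 K9 card_G43)

/-- A normal subgroup of the quotient group with more than three elements in the half covers the half, given the
scalar. -/
theorem K0_le {H : Subgroup K6} [hH : H.Normal] (hom : om ∈ H) (hbig : ¬ H ⊓ K0 ≤ Subgroup.zpowers om) : K0 ≤ H := by
  haveI := zp_normal
  haveI : IsSimpleGroup G43 :=
    Fus.UnitTv.isSimpleGroup_psu UFourThree.K9.card_eq (by norm_num) (by norm_num)
  obtain ⟨η⟩ := nonempty_iso
  let f : K0 →* G43 := η.toMonoidHom.comp (QuotientGroup.mk' _)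
  have hf : Function.Surjective f := η.surjective.comp (QuotientGroup.mk'_surjective _)
  have hker : ∀ x : K0, f x = 1 ↔ (x : K6) ∈ Subgroup.zpowers om := fun x => by
    show η (QuotientGroup.mk x) = 1 ↔ _
    rw [MulEquiv.map_eq_one_iff, QuotientGroup.eq_one_iff, Subgroup.mem_subgroupOf]
  have hn : ((H.subgroupOf K0).map f).Normal := (hH.subgroupOf K0).map f hf
  rcases hn.eq_bot_or_eq_top with h | h
  · refine absurd (fun x hx => ?_) hbig
    have h1 : f ⟨x, hx.2⟩ ∈ (H.subgroupOf K0).map f := Subgroup.mem_map_of_mem f (Subgroup.mem_subgroupOf.2 hx.1)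
    rw [h, Subgroup.mem_bot, hker] at h1
    exact h1
  · intro x hx
    obtain ⟨y, hy, e⟩ := (h ▸ Subgroup.mem_top (f ⟨x, hx⟩) : f ⟨x, hx⟩ ∈ (H.subgroupOf K0).map f)
    have h1 : f (y⁻¹ * ⟨x, hx⟩) = 1 := by rw [map_mul, map_inv, e, inv_mul_cancel]
    rw [hker, Subgroup.coe_mul, Subgroup.coe_inv] at h1
    have h2 := mul_mem (Subgroup.mem_subgroupOf.1 hy) (Subgroup.zpowers_le.2 hom h1)
    rwa [mul_inv_cancel_left] at h2

theorem K0_card : 6 < Nat.card K0 := by
  haveI := finite_K6
  haveI := zp_normal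
  obtain ⟨η⟩ := nonempty_iso
  have h := Subgroup.card_eq_card_quotient_mul_card_subgroup ((Subgroup.zpowers om).subgroupOf K0)
  rw [Nat.card_congr η.toEquiv, card_G43] at h
  have hpos : 0 < Nat.card ((Subgroup.zpowers om).subgroupOf K0) := Nat.card_pos
  rw [h]
  exact lt_of_lt_of_le (by norm_num) (Nat.le_mul_of_pos_right 3265920 hpos)

/-- The half is the only subgroup of index two. -/
theorem index_two_unique {H : Subgroup K6} (hH : H.index = 2) : H = K0 := by
  haveI := finite_K6
  haveI : H.Normal := Subgroup.normal_of_index_eq_two hH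
  have hom : om ∈ H := by
    have h2 := Subgroup.sq_mem_of_index_two hH (om ^ 2)
    rw [← pow_mul, show 2 * 2 = 3 + 1 from rfl, pow_succ, ← order_om, pow_orderOf_eq_one, one_mul] at h2
    exact h2
  have hle : K0 ≤ H := by
    refine K0_le hom fun hle => ?_
    have h1 := Subgroup.card_le_of_le hle
    rw [Nat.card_zpowers, order_om] at h1
    have h2 := Subgroup.card_mul_index (H.subgroupOf K0)
    rw [← Subgroup.inf_subgroupOf_right, Nat.card_congr (Subgroup.subgroupOfEquivOfLe inf_le_right).toEquiv,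
      Subgroup.inf_subgroupOf_right] at h2
    have h3 : (H.subgroupOf K0).index ≤ 2 := by
      have h5 := Subgroup.relIndex_dvd_index_of_normal H K0
      rw [Subgroup.relIndex, hH] at h5
      exact Nat.le_of_dvd (by norm_num) h5
    have h4 := K0_card
    have := Nat.mul_le_mul h1 h3
    omega
  refine (Subgroup.eq_of_le_of_card_ge hle (le_of_eq ?_)).symm
  have a := H.card_mul_index
  have c := K0.card_mul_index
  rw [hH] at a
  rw [index_K0] at c
  omega

/-- A large normal subgroup reaching outside the half is everything. -/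
theorem eq_top_of_large {H : Subgroup K6} [hH : H.Normal] (hout : ¬ H ≤ K0) (hcard : 6 < Nat.card H) : H = ⊤ := by
  haveI := finite_K6
  obtain ⟨x, hx, hx0⟩ := SetLike.not_le_iff_exists.1 hout
  have hne : x * om * x⁻¹ * om⁻¹ ≠ 1 := fun e => hx0 (by
    rw [K0, Subgroup.mem_centralizer_singleton_iff]
    rwa [mul_inv_eq_one, mul_inv_eq_iff_eq_mul] at e)
  have hom : om ∈ H := by
    have hz : x * om * x⁻¹ * om⁻¹ ∈ Subgroup.zpowers om :=
      mul_mem (zp_normal.conj_mem _ (Subgroup.mem_zpowers om) x) (inv_mem (Subgroup.mem_zpowers om))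
    have hm : x * om * x⁻¹ * om⁻¹ ∈ H := by
      rw [show x * om * x⁻¹ * om⁻¹ = x * (om * x⁻¹ * om⁻¹) by group]
      exact mul_mem hx (hH.conj_mem _ (inv_mem hx) om)
    have hz3 : (x * om * x⁻¹ * om⁻¹) ^ 3 = 1 := by
      have h6 := orderOf_dvd_of_mem_zpowers hz
      rw [order_om] at h6
      exact orderOf_dvd_iff_pow_eq_one.1 h6
    have h1 : Subgroup.zpowers (x * om * x⁻¹ * om⁻¹) = Subgroup.zpowers om := by
      refine Subgroup.eq_of_le_of_card_ge (Subgroup.zpowers_le.2 hz) ?_
      haveI : Fact (Nat.Prime 3) := ⟨Nat.prime_three⟩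
      rw [Nat.card_zpowers, Nat.card_zpowers, order_om, orderOf_eq_prime hz3 hne]
    exact Subgroup.zpowers_le.2 hm (h1.symm.le (Subgroup.mem_zpowers om))
  have hle : K0 ≤ H := by
    refine K0_le hom fun hle => ?_
    have h1 := Subgroup.card_le_of_le hle
    rw [Nat.card_zpowers, order_om] at h1
    have h2 := Subgroup.card_mul_index (K0.subgroupOf H)
    rw [← Subgroup.inf_subgroupOf_right, Nat.card_congr (Subgroup.subgroupOfEquivOfLe inf_le_right).toEquiv,
      Subgroup.inf_subgroupOf_right, inf_comm] at h2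
    haveI := K0_normal
    have h3 : (K0.subgroupOf H).index ≤ 2 := by
      have h5 := Subgroup.relIndex_dvd_index_of_normal K0 H
      rw [Subgroup.relIndex, index_K0] at h5
      exact Nat.le_of_dvd (by norm_num) h5
    have := Nat.mul_le_mul h1 h3
    omega
  by_contra htop
  have hi := Subgroup.index_dvd_of_le hle
  rw [index_K0] at hi
  rcases (Nat.dvd_prime Nat.prime_two).1 hi with h | h
  · exact htop (Subgroup.index_eq_one.1 h)
  · exact hx0 (index_two_unique h ▸ hx)

variable {G : Type*} [Group G] [Finite G] {z : G} {Q : Subgroup (Subgroup.centralizer ({z} : Set G))} [hQn : Q.Normal]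
  {e : (Subgroup.centralizer ({z} : Set G)) ⧸ Q ≃* Cfsg.Spor.Co1} {ψ : leechLattice → Q ⧸ Subgroup.center Q}
  {b s : G} (S : Setup z Q e ψ 3 P0 Bs Gi b s none) [hn : (NT b).Normal] [hN : (NZ b).Normal]
  (hswap : ∃ h : G, h * z * h⁻¹ = s ∧ h * b * h⁻¹ ∈ Subgroup.zpowers b)

/-- The map of the centraliser of the new centre to the quotient group. -/
def psi0 : Subgroup.centralizer ({e0 b S.zb} : Set (G0 b)) →* K6 :=
  (S.Phi quot).comp (centEquiv (e0 b) S.zb).symm.toMonoidHom

theorem psi0_surjective : Function.Surjective (psi0 S) :=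
  (S.Phi_surjective quot).comp (centEquiv (e0 b) S.zb).symm.surjective

theorem psi0_ker : (psi0 S).ker = QC S := by
  rw [QC, Subgroup.map_equiv_eq_comap_symm', psi0, ← MonoidHom.comap_ker, S.ker_Phi quot]

include S hswap in
/-- The section is simple. -/
theorem isSimple : IsSimpleGroup (G0 b) := by
  haveI := finite_K6
  haveI := QC_normal S
  have hAt := large_at_image S hswap
  obtain ⟨g₀, ⟨hq, hqQ⟩, hne⟩ := hAt.1.2.2.2.2
  obtain ⟨m⟩ := Cfsg.Agent.Spor.LargeFischer.exists_model hAt
  have hx : g₀ * e0 b S.zb * g₀⁻¹ ∈ LargeFischer.QG (QC S) := ⟨⟨_, hq⟩, hqQ, rfl⟩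
  haveI : Nontrivial (G0 b) := ⟨⟨e0 b S.zb, 1, fun h => by
    have h1 : orderOf (e0 b S.zb) = 2 := by rw [MulEquiv.orderOf_eq, S.zb_order]
    rw [h, orderOf_one] at h1
    omega⟩⟩
  refine ⟨fun N hNn => or_iff_not_imp_left.2 fun hN => ?_⟩
  haveI := hNn
  have hQN := Normal.QG_le m N hx hne hN
  obtain ⟨E, hEN, hEc, hEQ, hEM⟩ := Normal.exists_conj_group m N hx hne hN
  refine Normal.eq_top_of_centralizer_le m N ?_
  let NC := N.subgroupOf (Subgroup.centralizer ({e0 b S.zb} : Set (G0 b)))
  haveI : (NC.map (psi0 S)).Normal := (hNn.subgroupOf _).map _ (psi0_surjective S)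
  have hker : (psi0 S).ker ≤ NC := by
    rw [psi0_ker]
    exact fun c hc => Subgroup.mem_subgroupOf.2 (hQN ⟨c, hc, rfl⟩)
  have hEle : E ≤ NC := fun a ha => Subgroup.mem_subgroupOf.2 (hEN a ha)
  have hMK : m.M.map (psi0 S) = K0 := index_two_unique (by
    rw [Subgroup.index_map_eq _ (psi0_surjective S) (by rw [psi0_ker]; exact m.M_le), m.M_index])
  have htop : NC.map (psi0 S) = ⊤ := by
    refine eq_top_of_large (fun hle => hEM ?_) ?_
    · intro a ha
      obtain ⟨y, hy, hy'⟩ := (hMK ▸ hle (Subgroup.mem_map_of_mem _ (hEle ha)) :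
        psi0 S a ∈ m.M.map (psi0 S))
      have h1 : y⁻¹ * a ∈ (psi0 S).ker := by rw [MonoidHom.mem_ker, map_mul, map_inv, hy', inv_mul_cancel]
      rw [psi0_ker] at h1
      have h2 := mul_mem hy (m.M_le h1)
      rwa [mul_inv_cancel_left] at h2
    · have h1 := Spor.Leech.card_eq_ker_mul_map (psi0 S) E
      rw [psi0_ker, hEc] at h1
      have h2 := Subgroup.card_le_of_le (Subgroup.map_mono hEle : E.map (psi0 S) ≤ NC.map (psi0 S))
      have h3 : 2 ^ 12 ≤ 2 ^ 7 * Nat.card (NC.map (psi0 S)) :=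
        h1.le.trans (Nat.mul_le_mul hEQ h2)
      generalize Nat.card (NC.map (psi0 S)) = n at h3 ⊢
      omega
  intro c hc
  have h1 : NC = ⊤ := by
    rw [← Subgroup.comap_map_eq_self hker, htop, Subgroup.comap_top]
  exact Subgroup.mem_subgroupOf.1 (h1 ▸ Subgroup.mem_top (⟨c, hc⟩ : Subgroup.centralizer ({e0 b S.zb} : Set (G0 b))))

end Cfsg.Agent.Fus.MonsterThree
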